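import Cfsg.Agent.H153.Cov.Fi23
import Cfsg.Agent.H839.ElevenMain
import Cfsg.Agent.H843.N23
import Cfsg.Agent.H843.N11
import Cfsg.Agent.H257.El.Row.Fi24
import Cfsg.Agent.FastGrp
import Cfsg.Agent.Prune
set_option linter.all false
open scoped Cfsg.Agent.FastGrp

/-!
# S2499: `Fi24'` (helper153)

Elements of order 29: only `PSL₂(29)`.  A proper subgroup of order divisible by 13 and 23 has a section `Fi23`
and no element of order 33.
-/

set_option autoImplicit false

namespace Cfsg.Agent.H153.Cov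

open Cfsg Subgroup Cfsg.Agent.OrdDiv Cfsg.Agent.H278.Cov Cfsg.Agent.H455.Cov
open Cfsg.Spor (Fi23 Fi24 Fi24')
open Cfsg.Agent.H257.El (Known)

/-! ### `Fi23` has no element of order 33 -/

theorem card_norm11 (X : Subgroup Fi23) (hX : Nat.card X = 11) :
    Nat.card (normalizer (X : Set Fi23)) = 440 := by
  obtain ⟨g, hg⟩ := H839.Fi23.conj_all11 H839.Fi23.X11 X H839.Fi23.card_X11 hX
  rw [← hg]
  have h1 := H838.Transport.map_normalizer (MulAut.conj g) H839.Fi23.X11
  have h2 : Nat.card ↥((normalizer (H839.Fi23.X11 : Set Fi23)).map (MulAut.conj g).toMonoidHom) =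
      Nat.card ↥(normalizer (H839.Fi23.X11 : Set Fi23)) :=
    Subgroup.card_map_of_injective (MulAut.conj g).injective
  rw [h1, H839.Fi23.card_N11] at h2
  exact h2

theorem noOrd33 (z : Fi23) : orderOf z ≠ 11 * 3 := by
  refine H257.El.noOrd_of_noComm (by norm_num) (by norm_num) (fun x y hx hy hxy => ?_) z
  have h1 := card_norm11 (zpowers x) (by rw [Nat.card_zpowers, hx])
  have h2 : y ∈ centralizer ((zpowers x : Subgroup Fi23) : Set Fi23) := by
    rw [mem_centralizer_iff]
    rintro _ ⟨m, rfl⟩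
    exact ((Commute.zpow_left (show Commute x y from hxy) m)).eq
  have h3 := Subgroup.orderOf_dvd_natCard _ (centralizer_le_normalizer _ h2)
  rw [hy, h1] at h3
  exact absurd h3 (by norm_num)

/-! ### `Fi24'` -/

/-- the factorisation of the order of `Fi24'` -/
def l24 : List (ℕ × ℕ) := [(2, 21), (3, 16), (5, 2), (7, 3), (11, 1), (13, 1), (17, 1), (23, 1), (29, 1)]

/-- if the Sylow `l`-subgroups have order `l`, elements commuting with an element of order `l` -/
theorem dvd_cent {K : Type*} [Group K] [Finite K] {l c : ℕ} (hl : l.Prime) (h2 : ¬ l ^ 2 ∣ Nat.card K) {x₀ : K}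
    (h0 : orderOf x₀ = l) (hc : Nat.card (centralizer ((zpowers x₀ : Subgroup K) : Set K)) = c) {x y : K}
    (hx : orderOf x = l) (hxy : x * y = y * x) : orderOf y ∣ c := by
  have : Fact l.Prime := ⟨hl⟩
  obtain ⟨P, hP⟩ := H377.SporRow.exists_cyclic (K := K) (p := l) h2
  obtain ⟨s, -, hs⟩ := H568.conj_of_cyclic P hP hx x₀ h0
  obtain ⟨s, hs, -⟩ := H568.conj_of_cyclic P hP hx x₀ h0
  have hc' : Commute (s * x * s⁻¹) (s * y * s⁻¹) := by
    show s * x * s⁻¹ * (s * y * s⁻¹) = s * y * s⁻¹ * (s * x * s⁻¹)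
    calc s * x * s⁻¹ * (s * y * s⁻¹) = s * (x * y) * s⁻¹ := by group
      _ = s * (y * x) * s⁻¹ := by rw [hxy]
      _ = _ := by group
  obtain ⟨i, hi⟩ := hs
  have hi' : (s * x * s⁻¹) ^ i = x₀ := hi
  have h3 : s * y * s⁻¹ ∈ centralizer ((zpowers x₀ : Subgroup K) : Set K) := by
    rw [mem_centralizer_iff]
    rintro _ ⟨m, rfl⟩
    rw [← hi']
    exact ((hc'.zpow_left i).zpow_left m).eq
  have h4 := Subgroup.orderOf_dvd_natCard _ h3
  rw [hc] at h4
  have h5 : orderOf (s * y * s⁻¹) = orderOf y := H568.orderOf_conj' s y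
  rwa [h5] at h4

theorem noOrd24_23 (s : ℕ) (hs : s.Prime) (h2 : s ≠ 2) (h23 : s ≠ 23) {T : Type*} [Group T] (h : Spor.IsoFi24' T)
    (z : T) : orderOf z ≠ 23 * s := by
  obtain ⟨e⟩ := h
  have hfin : Finite Fi24 := R08.FiTwentyFour.finite_Fi24
  refine H257.El.noOrd_congr e (H257.El.noOrd_of_noComm (by norm_num) hs fun x y hx hy hxy => ?_) z
  have h1 := dvd_cent (K := Fi24) (l := 23) (by norm_num) (by rw [H843.Fi24N.card_Fi24]; norm_num) H843.D23.order
    H843.D23.main.2 (x := (x : Fi24)) (y := (y : Fi24)) (by rw [Subgroup.orderOf_coe, hx])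
    (congrArg Subtype.val hxy)
  rw [Subgroup.orderOf_coe, hy] at h1
  rcases (hs.dvd_mul).1 (show s ∣ 2 * 23 from h1) with h3 | h3
  · exact h2 ((Nat.prime_dvd_prime_iff_eq hs Nat.prime_two).1 h3)
  · exact h23 ((Nat.prime_dvd_prime_iff_eq hs (by norm_num)).1 h3)

theorem exists_33 {T : Type*} [Group T] (h : Spor.IsoFi24' T) : ∃ z : T, orderOf z = 33 := by
  have hc := NotCT.Orders.fi24 h
  obtain ⟨e⟩ := h
  have hfin : Finite Fi24 := R08.FiTwentyFour.finite_Fi24
  have hi : (commutator Fi24).index = 2 := by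
    have h1 := Subgroup.card_mul_index (commutator Fi24)
    have h2 : Nat.card ↥(commutator Fi24) = 1255205709190661721292800 := by
      rw [← hc]
      exact (Nat.card_congr e.toEquiv).symm
    rw [h2, H843.Fi24N.card_Fi24] at h1
    omega
  have ho : orderOf (H843.D11.D.x * Cfsg.Agent.Fischer.Fi24Rep.word H843.D11.cw) = 33 := by
    have hc : Commute H843.D11.D.x (Cfsg.Agent.Fischer.Fi24Rep.word H843.D11.cw) := H843.D11.comm_c.symm
    rw [hc.orderOf_mul_eq_mul_orderOf_of_coprime (by rw [H843.D11.order, H843.D11.orderc]; norm_num),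
      H843.D11.order, H843.D11.orderc]
  generalize H843.D11.D.x * Cfsg.Agent.Fischer.Fi24Rep.word H843.D11.cw = z at ho
  have hz : z ∈ commutator Fi24 := by
    have h1 : z = (z ^ 17) ^ 2 := by
      rw [← pow_mul]
      have h2 : z ^ (17 * 2) = z ^ 33 * z := by rw [← pow_succ]
      rw [h2, ← ho, pow_orderOf_eq_one, one_mul]
    rw [h1]
    exact Subgroup.sq_mem_of_index_two hi _
  refine ⟨e.symm ⟨z, hz⟩, ?_⟩
  rw [MulEquiv.orderOf_eq, Subgroup.orderOf_mk, ho]

/-- the core: a prime dividing `|O|` -/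
theorem not_dvd_core' {R : Type*} [Group R] [Finite R] {r : ℕ} {O : Subgroup R} [O.Normal] {N : Subgroup (R ⧸ O)}
    {s : ℕ} (h : H257.El.Top R r O N) (hs : s.Prime) (hrs : r ≠ s) (hno : ∀ z : R, orderOf z ≠ r * s)
    (hord : ∀ b, 1 ≤ b → s ^ b ∣ Nat.card O → s ^ b % r ≠ 1) : ¬ s ∣ Nat.card O := by
  intro hsO
  have hr' : Fact r.Prime := ⟨h.prime⟩
  have hs' : Fact s.Prime := ⟨hs⟩
  obtain ⟨S⟩ : Nonempty (Sylow s O) := inferInstance
  obtain ⟨y, hy, hyS⟩ := H257.El.exists_normalizer h.dvdR O h.core S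
  set P : Subgroup R := (S : Subgroup O).map O.subtype with hP
  have hPp : IsPGroup s P := S.isPGroup'.map _
  obtain ⟨b, hb⟩ := IsPGroup.iff_card.1 hPp
  have hPc : Nat.card P = Nat.card S := by
    rw [hP, Subgroup.card_map_of_injective O.subtype_injective]
  have hb1 : 1 ≤ b := by
    by_contra hb0
    have : b = 0 := by omega
    rw [this, pow_zero] at hb
    have h3 := S.card_eq_multiplicity
    rw [← hPc, hb] at h3
    have h4 : 1 ≤ (Nat.card O).factorization s := by
      have := (hs.pow_dvd_iff_le_factorization (k := 1) (n := Nat.card O) Nat.card_pos.ne').1 (by rwa [pow_one])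
      exact this
    have h5 := Nat.one_lt_pow (n := (Nat.card O).factorization s) (by omega) hs.one_lt
    omega
  have h1 := hord b hb1 (by rw [← hb, hPc]; exact Subgroup.card_subgroup_dvd_card _)
  obtain ⟨w, -, hw, hyw⟩ := H257.El.exists_comm_of_normalizer h.prime hs hy hPp hyS (by rw [hb]; exact h1)
  exact hno _ (H257.El.orderOf_mul_of_comm h.prime hs hrs hy hw hyw)

/-- an element of order prime to `|O|` and to `|R / O : N|` -/
theorem exists_mem_N {R : Type*} [Group R] [Finite R] {O : Subgroup R} [O.Normal] {N : Subgroup (R ⧸ O)} (hN : N.Normal)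
    {k : ℕ} (hO : Nat.Coprime k (Nat.card O)) (hi : Nat.Coprime k N.index) {z : R} (hz : orderOf z = k) :
    ∃ x : N, orderOf x = k := by
  have h1 : orderOf (QuotientGroup.mk' O z) = k := by
    apply Nat.dvd_antisymm
    · rw [← hz]
      exact orderOf_map_dvd _ _
    · have h2 : z ^ orderOf (QuotientGroup.mk' O z) ∈ O := by
        rw [← QuotientGroup.eq_one_iff]
        change QuotientGroup.mk' O (z ^ orderOf (QuotientGroup.mk' O z)) = 1
        rw [map_pow, pow_orderOf_eq_one]
      have h3 : orderOf (z ^ orderOf (QuotientGroup.mk' O z)) ∣ Nat.card O := Subgroup.orderOf_dvd_natCard _ h2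
      have h4 : orderOf (z ^ orderOf (QuotientGroup.mk' O z)) ∣ k := by
        rw [← hz]
        exact orderOf_pow_dvd _
      have h5 : orderOf (z ^ orderOf (QuotientGroup.mk' O z)) = 1 := Nat.dvd_one.1 (by
        have := Nat.dvd_gcd h4 h3
        rwa [hO] at this)
      rw [← hz]
      exact orderOf_dvd_of_pow_eq_one (orderOf_eq_one_iff.1 h5)
  have h2 : QuotientGroup.mk' O z ∈ N := by
    rw [← QuotientGroup.eq_one_iff]
    have h3 : orderOf (QuotientGroup.mk' N (QuotientGroup.mk' O z)) ∣ k := by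
      rw [← h1]
      exact orderOf_map_dvd _ _
    have h4 : orderOf (QuotientGroup.mk' N (QuotientGroup.mk' O z)) ∣ N.index := by
      rw [Subgroup.index_eq_card]
      exact orderOf_dvd_natCard _
    exact orderOf_eq_one_iff.1 (Nat.dvd_one.1 (by
      have := Nat.dvd_gcd h3 h4
      rwa [hi] at this))
  exact ⟨⟨_, h2⟩, by rw [Subgroup.orderOf_mk, h1]⟩

/-- a proper subgroup of order divisible by 13, 23 has no element of order 33 -/
theorem miss33 (tab : OrderTable.{0}) (known : Known.{0}) {T : Type} [Group T] [Finite T] (h : Spor.IsoFi24' T)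
    {R : Subgroup T} (hR : R ≠ ⊤) (h13 : 13 ∣ Nat.card R) (h23 : 23 ∣ Nat.card R) (z : R) : orderOf z ≠ 33 := by
  have hc := NotCT.Orders.fi24 h
  intro hz
  have S : H257.El.SitP T 1255205709190661721292800 l24 23 R :=
    H257.El.sitP_of tab known hc (by decide +kernel) (by norm_num) (by decide +kernel) hR h23
  obtain ⟨O, hO, N, ht⟩ := S.exists_top
  have hno : ∀ s : ℕ, s.Prime → s ≠ 2 → s ≠ 23 → ∀ z : T, orderOf z ≠ 23 * s := fun s hs h2 h3 =>
    noOrd24_23 s hs h2 h3 h
  have d13 := S.dvd_simple ht (by norm_num) (hno 13 (by norm_num) (by norm_num) (by norm_num))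
    (by decide +kernel) h13
  have hna := H257.El.Sit.not_comm_of_dvd ht (s := 13) (by norm_num) (by norm_num) d13
  obtain ⟨g, hg, hr, hgc⟩ := S.exists_surv ht hna [13] (by
    intro s hs
    rw [List.mem_singleton] at hs
    subst hs
    exact d13)
  have h1 : ((H257.El.surv 1255205709190661721292800 l24 23 [13]).all fun g => g == .fi23) = true := by
    decide +kernel
  rw [List.all_eq_true] at h1
  have h2 : g = .fi23 := by simpa using h1 g hg
  subst h2
  have hgc' : Nat.card N = 4089470473293004800 := hgc.trans (by decide +kernel)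
  have hd : N.index * Nat.card O ∣ 306936 := by
    have h3 : Nat.card R ∣ 1255205709190661721292800 := S.dvd_n
    rw [← H257.El.card_quot_mul O, ← Subgroup.card_mul_index N, hgc',
      show (1255205709190661721292800 : ℕ) = 4089470473293004800 * 306936 by norm_num, mul_assoc] at h3
    exact Nat.dvd_of_mul_dvd_mul_left (by norm_num) h3
  have hdO : Nat.card O ∣ 306936 := (dvd_mul_left _ _).trans hd
  have hdN : N.index ∣ 306936 := (dvd_mul_right _ _).trans hd
  have hno3 : ∀ z : R, orderOf z ≠ 23 * 3 := H257.El.SitP.noR (hno 3 (by norm_num) (by norm_num) (by norm_num))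
  have h3O : ¬ 3 ∣ Nat.card O := by
    refine not_dvd_core' ht (by norm_num) (by norm_num) hno3 fun b hb hbd => ?_
    have h4 : 3 ^ b ∣ 306936 := hbd.trans hdO
    have h5 : b ≤ 3 := by
      by_contra hcon
      have h6 : 3 ^ 4 ∣ 306936 := (pow_dvd_pow 3 (by omega)).trans h4
      exact absurd h6 (by norm_num)
    interval_cases b <;> norm_num
  have h3N : ¬ 3 ∣ N.index := ht.not_dvd_index (by norm_num) (by norm_num) hno3 (by norm_num)
  have hcop : ∀ m : ℕ, m ∣ 306936 → ¬ 3 ∣ m → Nat.Coprime 33 m := by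
    intro m hm h3
    rw [show (33 : ℕ) = 3 * 11 by norm_num, Nat.coprime_mul_iff_left]
    refine ⟨(Nat.prime_three.coprime_iff_not_dvd).2 h3, ((by norm_num : Nat.Prime 11).coprime_iff_not_dvd).2 fun h => ?_⟩
    exact absurd (h.trans hm) (by norm_num)
  obtain ⟨x, hx⟩ := exists_mem_N ht.normal (hcop _ hdO h3O) (hcop _ hdN h3N) hz
  obtain ⟨e⟩ : Spor.IsoFi23 N := hr
  exact H257.El.noOrd_congr e noOrd33 x hx

theorem noTwo_fi24 (tab : OrderTable.{0}) (known : Known.{0}) {T : Type} [Group T] [Finite T]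
    (h : Spor.IsoFi24' T) : NoTwo T := by
  have hc := NotCT.Orders.fi24 h
  have hW : ∀ w ∈ [11, 13, 23], w.Prime ∧ w ∣ Nat.card T ∧ w ≠ 29 := by
    intro w hw
    simp only [List.mem_cons, List.not_mem_nil, or_false] at hw
    rw [hc]
    rcases hw with rfl | rfl | rfl <;> norm_num
  have hbad : ∀ w ∈ [11, 13, 23], Bad T 29 w := bad_of_chkW tab known (l := l24) hc (by norm_num)
    (fun w hw => (hW w hw).1) (fun w hw => H257.El.Row.noOrd_fi24 h (hW w hw).1 (hW w hw).2.2) (by decide +kernel)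
  obtain ⟨x, hx⟩ := exists_elt (T := T) (p := 29) (by norm_num) (by rw [hc]; norm_num)
  obtain ⟨z, hz⟩ := exists_33 h
  -- a proper subgroup is avoided by `z` or by an element of order `w`
  have key : ∀ K : Subgroup T, K ≠ ⊤ → ∃ w ∈ [11, 13, 23], ∃ y : T, w ∣ orderOf y ∧ Av y K := by
    intro K hK
    by_cases hall : ∀ w ∈ [11, 13, 23], w ∣ Nat.card K
    · refine ⟨11, by simp, z, by rw [hz]; norm_num, av_of_order fun y hy => ?_⟩
      rw [hz]
      have h1 := miss33 tab known h hK (hall 13 (by simp)) (hall 23 (by simp)) ⟨y, hy⟩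
      rwa [Subgroup.orderOf_mk] at h1
    · push Not at hall
      obtain ⟨w, hw, hd⟩ := hall
      obtain ⟨y, hy⟩ := exists_elt (hW w hw).1 (hW w hw).2.1
      exact ⟨w, hw, y, hy, av_of_not_dvd hy hd⟩
  intro H K hH hK
  by_cases hHa : 29 ∣ Nat.card H
  · obtain ⟨w, hw, y, hy, hav⟩ := key K hK
    exact ⟨y, av_of_not_dvd hy (hbad w hw H hH hHa), hav⟩
  · by_cases hKa : 29 ∣ Nat.card K
    · obtain ⟨w, hw, y, hy, hav⟩ := key H hH
      exact ⟨y, hav, av_of_not_dvd hy (hbad w hw K hK hKa)⟩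
    · exact ⟨x, av_of_not_dvd hx hHa, av_of_not_dvd hx hKa⟩

end Cfsg.Agent.H153.Cov
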